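import Groth.Agent.AbSquare57.Cube
import Groth.Agent.AbProj57.Exists

/-!
An invertible module on an abelian variety with a section whose non-vanishing locus is affine and
nonempty is ample.
-/

set_option autoImplicit false
set_option backward.isDefEq.respectTransparency.types false
universe u

open CategoryTheory CategoryTheory.Limits MonoidalCategory CartesianMonoidalCategory MonObj AlgebraicGeometry

noncomputable section

namespace Groth.Agent.AbAmple7

variable {K : Type u} [Field K]

theorem squareProp (A : Over (Spec (CommRingCat.of K))) [GrpObj A] [IsProper A.hom] [GeometricallyIntegral A.hom]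
    {L : A.left.Modules} (hL : PicF.IsInvertible L) : AbProj57.SquareProp L := fun a b => by
  have h0 := AbSquare57.square (A := A) (PicGrp.cls L hL) a b
  simp only [AbSquare57.pb_cls] at h0
  exact (PicGrp.cl_eq_cl_iff _ _).1 (congrArg Subtype.val h0)

theorem isAmple_of_affine_genLocus (A : Over (Spec (CommRingCat.of K))) [GrpObj A] [IsProper A.hom]
    [GeometricallyIntegral A.hom] {L : A.left.Modules} (hL : PicF.IsInvertible L)
    (s : Coh.structureModule A.left ⟶ L) (haff : IsAffineOpen (CohB1.genLocus L s))
    (hne : (CohB1.genLocus L s : Set A.left).Nonempty) : CohB1.IsAmple L := by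
  let t : Spec (CommRingCat.of (AlgebraicClosure K)) ⟶ Spec (CommRingCat.of K) :=
    Spec.map (CommRingCat.ofHom (algebraMap K (AlgebraicClosure K)))
  have hflat : Flat t := by
    rw [HasRingHomProperty.Spec_iff (P := @Flat)]
    exact RingHom.flat_algebraMap_iff.2 (inferInstance : Module.Flat K _)
  have hs : Surjective t := ⟨fun _ => ⟨IsLocalRing.closedPoint _, Subsingleton.elim (α := PrimeSpectrum K) _ _⟩⟩
  let A' := Red.bc t A
  let π : A'.left ⟶ A.left := pullback.fst A.hom t
  have : IsProper A'.hom := MorphismProperty.pullback_snd (P := @IsProper) _ _ ‹_›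
  have : GeometricallyIntegral A'.hom := MorphismProperty.pullback_snd (P := @GeometricallyIntegral) _ _ ‹_›
  have : IsIntegral A'.left := GeometricallyIntegral.isIntegral_of_subsingleton A'.hom
  have hL' := Amp73.isInvertible_pullback π hL
  have : IsAffineHom π := MorphismProperty.pullback_fst (P := @IsAffineHom) _ _ inferInstance
  have : Surjective π := MorphismProperty.pullback_fst (P := @Surjective) _ _ hs
  have h := AbProj57.isAmple_of_genLocus hL' (squareProp A' hL') (Amp73.pullHom π s)
    (by rw [Amp73.genLocus_pullHom π hL]; exact haff.preimage π)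
    (by
      rw [Amp73.genLocus_pullHom π hL]
      obtain ⟨u, hu⟩ := hne
      obtain ⟨v, rfl⟩ := π.surjective u
      exact ⟨v, hu⟩)
  exact Desc59.AmpleDesc.isAmple_of_pullback A.hom (IsPullback.of_hasPullback A.hom t) hL h

end Groth.Agent.AbAmple7
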